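import Groth.Agent.S8709
import Groth.Prelude.Def_Red
/-! A connected group has a single map to the multiplicative group up to translation and characters. -/
set_option autoImplicit false
set_option backward.isDefEq.respectTransparency false
universe u
open CategoryTheory MonoidalCategory CartesianMonoidalCategory MonObj GrpObj AlgebraicGeometry
noncomputable section
namespace Groth.Agent.LinUnique
variable {k : Type u} [Field k] {G : Over (Spec (CommRingCat.of k))} [GrpObj G]

/-- Normalising a map of groups which satisfies rigidity. -/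
theorem eq_const_of_rigid {H : Over (Spec (CommRingCat.of k))} {_ : GrpObj H}
    (hχ : ∀ (χ : G ⟶ H) [IsMonHom χ], χ = 1)
    (hrig : ∀ d : G ⊗ G ⟶ H, lift (𝟙 G) (toUnit G ≫ η[G]) ≫ d = 1 → lift (toUnit G ≫ η[G]) (𝟙 G) ≫ d = 1 → d = 1)
    (χ : G ⟶ H) : χ = toUnit G ≫ η[G] ≫ χ := by
  let χ' := χ * (toUnit G ≫ η[G] ≫ χ)⁻¹
  have h1 : η[G] ≫ χ' = 1 := by
    rw [MonObj.comp_mul, GrpObj.comp_inv, ← Category.assoc η[G] (toUnit G),
      toUnit_unique (η[G] ≫ toUnit G) (𝟙 _), Category.id_comp, _root_.mul_inv_cancel]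
  have h1' : (1 : G ⟶ G) ≫ χ' = 1 := by rw [Hom.one_def, Category.assoc, h1, MonObj.comp_one]
  let d : G ⊗ G ⟶ H := (μ[G] ≫ χ') * (snd G G ≫ χ')⁻¹ * (fst G G ≫ χ')⁻¹
  have hd : d = 1 := by
    refine hrig d ?_ ?_
    · rw [← Hom.one_def]
      simp only [d, MonObj.comp_mul, GrpObj.comp_inv]
      rw [← Category.assoc _ μ[G], ← Hom.mul_def, lift_fst_assoc, lift_snd_assoc, _root_.mul_one, Category.id_comp,
        h1', _root_.inv_one, _root_.mul_one, _root_.mul_inv_cancel]
    · rw [← Hom.one_def]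
      simp only [d, MonObj.comp_mul, GrpObj.comp_inv]
      rw [← Category.assoc _ μ[G], ← Hom.mul_def, lift_fst_assoc, lift_snd_assoc, _root_.one_mul, Category.id_comp,
        h1', _root_.inv_one, _root_.mul_inv_cancel, _root_.mul_one]
  rw [_root_.mul_inv_eq_one, _root_.mul_inv_eq_iff_eq_mul] at hd
  haveI : IsMonHom χ' := ⟨by rw [h1, Hom.one_def, toUnit_unique (toUnit (𝟙_ _)) (𝟙 _), Category.id_comp], by
    rw [hd, MonObj.mul_eq_mul]
    exact ((MonObj.comp_mul _ _ _).trans (by rw [tensorHom_fst, tensorHom_snd])).symm⟩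
  exact _root_.mul_inv_eq_one.mp (hχ χ')

set_option backward.isDefEq.respectTransparency true in
/-- Maps to the multiplicative group are constant when there is no character. -/
theorem eq_const [LocallyOfFiniteType G.hom] [QuasiCompact G.hom] [GeometricallyReduced G.hom]
    [GeometricallyConnected G.hom] (hχ : ∀ (χ : G ⟶ Red.Gm (Spec (CommRingCat.of k))) [IsMonHom χ], χ = 1)
    (χ : G ⟶ Red.Gm (Spec (CommRingCat.of k))) : χ = toUnit G ≫ η[G] ≫ χ :=
  eq_const_of_rigid hχ (fun d => S8709.result k G G η[G] η[G] d) χ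

end Groth.Agent.LinUnique
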